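import Mathlib
import Cfsg.Prelude.Def_CaseTheorems
import Cfsg.Agent.Lib.Cores
import Cfsg.Agent.Lib.SylowNormalInf
import Cfsg.Agent.FastGrp
import Cfsg.Agent.Prune
set_option linter.all false
prune_inst 0x7f00000000000000000000000000000000000000000000000000000000000000000000000000000000000000000000000000000000000000000000000000000000000000000000000000000000000000003fffffffffffffffffffffffffffbeffbdffffffff
open scoped Cfsg.Agent.FastGrp

/-!
# Normal subgroups whose Sylow 2-subgroups have a normal complement, in groups with trivial odd core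
-/

set_option autoImplicit false

namespace Cfsg.Agent.LFourA.OddFree

open Subgroup

variable {X : Type*} [Group X] [Finite X]

/-- the odd core of a normal subgroup is trivial -/
theorem oddCore_eq_bot (hO : Cfsg.oddCore X = ⊥) (N : Subgroup X) [hN : N.Normal] : Cfsg.oddCore N = ⊥ := by
  have h1 := Cfsg.Agent.Lib.Cores.map_subtype_pPrimeCore (G := X) 2 (N := N) hN
  have h2 : (Cfsg.pPrimeCore 2 X) = ⊥ := hO
  rw [h2, inf_bot_eq] at h1
  exact (Subgroup.map_eq_bot_iff_of_injective _ N.subtype_injective).mp h1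

/-- the Sylow subgroup of a normal subgroup -/
noncomputable def sylN (P : Sylow 2 X) (N : Subgroup X) [N.Normal] : Sylow 2 N :=
  (Cfsg.Agent.Lib.SylowNormalInf.isPGroup_subgroupOf P N).toSylow
    (Cfsg.Agent.Lib.SylowNormalInf.not_dvd_relIndex P N)

theorem mem_sylN (P : Sylow 2 X) (N : Subgroup X) [N.Normal] (x : N) :
    x ∈ (sylN P N : Subgroup N) ↔ (x : X) ∈ (P : Subgroup X) := Iff.rfl

/-- Burnside: a group with trivial odd core whose Sylow 2-subgroup is in the centre of its normaliser is a 2-group. -/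
theorem eq_top_of_normalizer (hO : Cfsg.oddCore X = ⊥) (Q : Sylow 2 X)
    (hQ : normalizer (Q : Set X) ≤ centralizer (Q : Set X)) : (Q : Subgroup X) = ⊤ := by
  have h1 := MonoidHom.ker_transferSylow_isComplement' Q hQ
  have h2 := MonoidHom.not_dvd_card_ker_transferSylow Q hQ
  have h3 : (MonoidHom.transferSylow Q hQ).ker ≤ Cfsg.oddCore X := by
    apply Cfsg.Agent.Lib.Cores.le_pPrimeCore inferInstance
    rw [Nat.coprime_comm]
    exact (Nat.Prime.coprime_iff_not_dvd Nat.prime_two).2 h2
  rw [hO, le_bot_iff] at h3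
  rw [h3] at h1
  exact isComplement'_bot_left.1 h1

/-- a normal subgroup centralising its Sylow subgroup -/
theorem le_of_central (hO : Cfsg.oddCore X = ⊥) (P : Sylow 2 X) (N : Subgroup X) [N.Normal]
    (hc : ∀ y ∈ N, y ∈ (P : Subgroup X) → ∀ g ∈ N, g * y = y * g) : N ≤ P := by
  have h1 := eq_top_of_normalizer (oddCore_eq_bot hO N) (sylN P N) (by
    intro g _
    rw [mem_centralizer_iff]
    intro y hy
    exact Subtype.ext (hc y y.2 ((mem_sylN P N y).1 hy) g g.2).symm)
  intro x hx
  have h2 : (⟨x, hx⟩ : N) ∈ (sylN P N : Subgroup N) := by rw [h1]; exact mem_top _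
  exact h2

/-- a normal subgroup with cyclic Sylow subgroup -/
theorem le_of_cyclic (hO : Cfsg.oddCore X = ⊥) (P : Sylow 2 X) (N : Subgroup X) [N.Normal] {x : X}
    (hc : ∀ y ∈ N, y ∈ (P : Subgroup X) → y ∈ zpowers x) : N ≤ P := by
  have hcyc : IsCyclic (sylN P N) := by
    have h1 : ((sylN P N : Subgroup N).map N.subtype) ≤ zpowers x := by
      rintro _ ⟨y, hy, rfl⟩
      exact hc y y.2 ((mem_sylN P N y).1 hy)
    have h2 : IsCyclic ((sylN P N : Subgroup N).map N.subtype) := by
      have := isCyclic_of_injective (Subgroup.inclusion h1) (Subgroup.inclusion_injective h1)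
      exact this
    exact (((sylN P N : Subgroup N).equivMapOfInjective _ N.subtype_injective).isCyclic).2 h2
  have h1 : (sylN P N : Subgroup N) = ⊤ := by
    by_cases h2 : 2 ∣ Nat.card N
    · have hmin : (Nat.card N).minFac = 2 := (Nat.minFac_eq_two_iff _).2 h2
      exact eq_top_of_normalizer (oddCore_eq_bot hO N) (sylN P N) (IsCyclic.normalizer_le_centralizer hmin hcyc)
    · have h3 : Cfsg.oddCore N = ⊤ := by
        rw [Cfsg.Agent.Lib.Cores.pPrimeCore_eq_top_iff, Nat.coprime_comm]
        exact (Nat.Prime.coprime_iff_not_dvd Nat.prime_two).2 h2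
      rw [oddCore_eq_bot hO N] at h3
      rw [eq_top_iff, ← h3]
      exact bot_le
  intro x hx
  have h2 : (⟨x, hx⟩ : N) ∈ (sylN P N : Subgroup N) := by rw [h1]; exact mem_top _
  exact h2

/-- a normal subgroup whose Sylow subgroup is contained in a four-group with a central involution `t` -/
theorem le_of_klein (hO : Cfsg.oddCore X = ⊥) (P : Sylow 2 X) (N : Subgroup X) [N.Normal] {t v : X}
    (htc : ∀ g, g * t = t * g) (htt : t * t = 1) (hvv : v * v = 1)
    (hc : ∀ y ∈ N, y ∈ (P : Subgroup X) → y = 1 ∨ y = t ∨ y = v ∨ y = v * t) : N ≤ P := by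
  have hv1 : v * t * t = v := by rw [mul_assoc, htt, mul_one]
  have hcomm : ∀ y ∈ N, y ∈ (P : Subgroup X) → ∀ y' ∈ N, y' ∈ (P : Subgroup X) → y * y' = y' * y := by
    intro y hy hyP y' hy' hyP'
    have key : ∀ y ∈ N, y ∈ (P : Subgroup X) → y * v = v * y ∧ y * t = t * y := by
      intro y hy hyP
      refine ⟨?_, htc y⟩
      rcases hc y hy hyP with rfl | rfl | rfl | rfl
      · simp
      · exact (htc v).symm
      · rfl
      · rw [mul_assoc, ← htc v]
    obtain ⟨h1, h2⟩ := key y hy hyP
    rcases hc y' hy' hyP' with rfl | rfl | rfl | rfl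
    · simp
    · exact h2
    · exact h1
    · rw [← mul_assoc, h1, mul_assoc, h2, mul_assoc]
  have h1 := eq_top_of_normalizer (oddCore_eq_bot hO N) (sylN P N) (by
    intro g hg
    rw [mem_centralizer_iff]
    intro y hy
    have hyP : (y : X) ∈ (P : Subgroup X) := (mem_sylN P N y).1 hy
    -- the conjugate
    have hgy : g * y * g⁻¹ ∈ (sylN P N : Subgroup N) := (mem_normalizer_iff.1 hg y).1 hy
    have hgyP : (g : X) * y * (g : X)⁻¹ ∈ (P : Subgroup X) := (mem_sylN P N _).1 hgy
    apply Subtype.ext
    change (y : X) * (g : X) = (g : X) * (y : X)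
    by_contra hne
    have hne' : (g : X) * y * (g : X)⁻¹ ≠ y := fun e => hne (mul_inv_eq_iff_eq_mul.1 e).symm
    -- `g y g⁻¹ = y t`
    have key : (g : X) * y * (g : X)⁻¹ = y * t := by
      have h2 := hc y y.2 hyP
      have h3 := hc _ (N.mul_mem (N.mul_mem g.2 y.2) (N.inv_mem g.2)) hgyP
      rcases h2 with h2 | h2 | h2 | h2
      · exfalso; apply hne'; rw [h2]; group
      · exfalso; apply hne'; rw [h2, htc, mul_inv_cancel_right]
      · rcases h3 with h3 | h3 | h3 | h3
        · exfalso
          apply hne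
          have : (y : X) = 1 := by
            have e : (y : X) = (g : X)⁻¹ * ((g : X) * y * (g : X)⁻¹) * g := by group
            rw [e, h3]; group
          rw [this]; group
        · exfalso
          apply hne
          have : (y : X) = t := by
            have e : (y : X) = (g : X)⁻¹ * ((g : X) * y * (g : X)⁻¹) * g := by group
            rw [e, h3, htc]; group
          rw [this, htc]
        · exact absurd (h3.trans h2.symm) hne'
        · rw [h3, h2]
      · rcases h3 with h3 | h3 | h3 | h3
        · exfalso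
          apply hne
          have : (y : X) = 1 := by
            have e : (y : X) = (g : X)⁻¹ * ((g : X) * y * (g : X)⁻¹) * g := by group
            rw [e, h3]; group
          rw [this]; group
        · exfalso
          apply hne
          have : (y : X) = t := by
            have e : (y : X) = (g : X)⁻¹ * ((g : X) * y * (g : X)⁻¹) * g := by group
            rw [e, h3, htc]; group
          rw [this, htc]
        · rw [h3, h2, hv1]
        · exact absurd (h3.trans h2.symm) hne'
    -- odd powers
    obtain ⟨e, m, hm, hem⟩ := Nat.exists_eq_two_pow_mul_odd (orderOf_pos g).ne'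
    have h2 : ∀ n : ℕ, (g : X) ^ n * y * ((g : X) ^ n)⁻¹ = y * t ^ n := by
      intro n
      induction n with
      | zero => simp
      | succ n ih =>
        have h3 : Commute (g : X) (t ^ n) := (show Commute (g : X) t from htc g).pow_right n
        calc (g : X) ^ (n + 1) * y * ((g : X) ^ (n + 1))⁻¹ = g * ((g : X) ^ n * y * ((g : X) ^ n)⁻¹) * (g : X)⁻¹ := by
              rw [pow_succ']; group
          _ = g * y * (t ^ n * (g : X)⁻¹) := by rw [ih]; group
          _ = g * y * ((g : X)⁻¹ * t ^ n) := by rw [h3.inv_left.eq]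
          _ = (g * y * (g : X)⁻¹) * t ^ n := by group
          _ = y * t ^ (n + 1) := by rw [key, pow_succ', mul_assoc]
    have h3 : t ^ m = t := by
      obtain ⟨q, rfl⟩ := hm
      rw [pow_succ, pow_mul, pow_two, htt, one_pow, one_mul]
    have h4 := h2 m
    rw [h3] at h4
    -- `g ^ m` is a 2-element of the normaliser
    have h5 : IsPGroup 2 (zpowers (g ^ m)) := by
      rw [IsPGroup.iff_orderOf]
      rintro ⟨x, hx⟩
      obtain ⟨q, rfl⟩ := mem_zpowers_iff.1 hx
      rw [Subgroup.orderOf_mk]
      have h6 : orderOf ((g ^ m) ^ q) ∣ 2 ^ e := by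
        rw [orderOf_dvd_iff_pow_eq_one, ← zpow_natCast, ← zpow_mul, mul_comm, zpow_mul, zpow_natCast, ← pow_mul,
          mul_comm m, ← hem, pow_orderOf_eq_one, one_zpow]
      obtain ⟨b, -, hb⟩ := (Nat.dvd_prime_pow Nat.prime_two).1 h6
      exact ⟨b, hb⟩
    have h6 := IsPGroup.inf_normalizer_sylow h5 (sylN P N)
    have h7 : g ^ m ∈ zpowers (g ^ m) ⊓ (sylN P N : Subgroup N) := by
      rw [← h6]
      exact ⟨mem_zpowers _, Subgroup.pow_mem _ hg m⟩
    have h8 : ((g ^ m : N) : X) ∈ (P : Subgroup X) := (mem_sylN P N _).1 h7.2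
    have h9 := hcomm _ (g ^ m).2 h8 y y.2 hyP
    have h10 : (g : X) ^ m * y * ((g : X) ^ m)⁻¹ = y := by
      have h11 : (g : X) ^ m * y = y * (g : X) ^ m := h9
      rw [h11, mul_inv_cancel_right]
    rw [h10] at h4
    have h11 : t = 1 := mul_eq_left.1 h4.symm
    apply hne'
    rw [key, h11, mul_one])
  intro x hx
  have h2 : (⟨x, hx⟩ : N) ∈ (sylN P N : Subgroup N) := by rw [h1]; exact mem_top _
  exact h2

end Cfsg.Agent.LFourA.OddFree
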