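import Mathlib
import Cfsg.Agent.S1299
import Cfsg.Agent.R15.NormalElem
import Cfsg.Agent.SignalizersComponents.CoprimeGen
import Cfsg.Agent.Dichotomy.CoreTools
import Cfsg.Agent.Lib.TwoClassEnd_m3
import Cfsg.Agent.Lib.FastPerm
import Cfsg.Agent.FastGrp
import Cfsg.Agent.Prune
set_option linter.all false

section
prune_inst 0x7f00000000000000000000000000000000000000000000000000000000000000000000000000000000000000000000000000000000000000000000000000000000000000000000000000000000000000003fffffffffffffffffffffffffffbeffbdffffffff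

-- part: Lib/KFamily
section
set_option linter.all false
open scoped Cfsg.Agent.FastGrp

/-!
# `k`-balanced families on one elementary abelian `p`-subgroup `A`

`X D` (`D ≤ A`, `|D| ≥ p ^ k`) is a family of `p'`-subgroups with `X D ⊓ C(E) ≤ X E` (balance on `A` only), inside
solvable `p'`-groups `K a` (`a ∈ A`, `a ≠ 1`). Then `θ a = ⟨X D ⊓ C(a)⟩` is a signalizer functor and (`p = 2`)
`W = ⟨X D⟩` has odd order, `C_W(D) = X D`, and `W = ⟨X D : D ≤ E⟩` for every `E ≤ A` with `|E| ≥ 2 ^ (k + 1)`.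

`ofDelta`: the case `X D = Δ(D)`, `K a = O(C(a))`.
-/

set_option autoImplicit false
set_option linter.unusedSectionVars false

namespace Cfsg.Agent.Lib.KFamily

open Subgroup Cfsg
open Cfsg.Agent.SignalizersComponents

variable {G : Type*} [Group G]

/-- the join of the `X D`, `D ≤ E` of order `c` -/
def WW (X : Subgroup G → Subgroup G) (E : Subgroup G) (c : ℕ) : Subgroup G :=
  ⨆ D : {D : Subgroup G // D ≤ E ∧ Nat.card D = c}, X (D : Subgroup G)

theorem le_WW {X : Subgroup G → Subgroup G} {E D : Subgroup G} {c : ℕ} (hD : D ≤ E) (hc : Nat.card D = c) :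
    X D ≤ WW X E c :=
  le_iSup (fun D : {D : Subgroup G // D ≤ E ∧ Nat.card D = c} => X (D : Subgroup G)) ⟨D, hD, hc⟩

theorem WW_mono {X : Subgroup G → Subgroup G} {E F : Subgroup G} (h : E ≤ F) (c : ℕ) : WW X E c ≤ WW X F c :=
  iSup_le fun D => le_WW (D.2.1.trans h) D.2.2

/-- a `k`-balanced family on `A` -/
structure Fam (p k : ℕ) (A : Subgroup G) (K : G → Subgroup G) (X : Subgroup G → Subgroup G) : Prop where
  one_le : 1 ≤ k
  elem : IsElementaryAbelian p A
  card : p ^ (k + 2) ≤ Nat.card A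
  solv : ∀ a ∈ A, a ≠ 1 → Group.IsSolvable ↥(K a)
  coprime : ∀ a ∈ A, a ≠ 1 → ¬ p ∣ Nat.card (K a)
  inv : ∀ a ∈ A, a ≠ 1 → ∀ b ∈ A, ∀ x ∈ K a, b * x * b⁻¹ ∈ K a
  cent : ∀ a ∈ A, a ≠ 1 → K a ≤ centralizer {a}
  le : ∀ D ≤ A, p ^ k ≤ Nat.card D → ∀ a ∈ D, a ≠ 1 → X D ≤ K a
  conj : ∀ D ≤ A, p ^ k ≤ Nat.card D → ∀ a ∈ D, a ≠ 1 → ∀ h ∈ K a, h ∈ centralizer (D : Set G) →
    ∀ x ∈ X D, h * x * h⁻¹ ∈ X D
  invX : ∀ D ≤ A, p ^ k ≤ Nat.card D → ∀ b ∈ A, ∀ x ∈ X D, b * x * b⁻¹ ∈ X D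
  bal : ∀ D ≤ A, p ^ k ≤ Nat.card D → ∀ E ≤ A, p ^ k ≤ Nat.card E → X D ⊓ centralizer (E : Set G) ≤ X E

/-- the functor -/
def th (X : Subgroup G → Subgroup G) (A : Subgroup G) (c : ℕ) (a : G) : Subgroup G :=
  ⨆ D : {D : Subgroup G // D ≤ A ∧ Nat.card ↥D = c}, X (D : Subgroup G) ⊓ centralizer {a}

section

variable [Finite G] {p k : ℕ} [Fact p.Prime] {A : Subgroup G} {K : G → Subgroup G} {X : Subgroup G → Subgroup G}

omit [Finite G] [Fact p.Prime] in
theorem Fam.comm (F : Fam p k A K X) {a b : G} (ha : a ∈ A) (hb : b ∈ A) : a * b = b * a := by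
  have h1 := F.elem.1.is_comm.comm (⟨a, ha⟩ : A) ⟨b, hb⟩
  exact congrArg Subtype.val h1

omit [Finite G] [Fact p.Prime] in
theorem Fam.isPGroup (F : Fam p k A K X) : IsPGroup p A := fun a => ⟨1, by
  apply Subtype.ext
  have := F.elem.2 a a.2
  simpa using this⟩

theorem Fam.card_ne (F : Fam p k A K X) {D : Subgroup G} (h : p ^ k ≤ Nat.card D) :
    ∃ a ∈ D, a ≠ 1 := by
  have hpp : p.Prime := Fact.out
  by_contra hc
  push Not at hc
  have h1 : D = ⊥ := (eq_bot_iff_forall D).2 hc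
  rw [h1, card_bot] at h
  have h2 : p ≤ p ^ k := Nat.le_self_pow (by have := F.one_le; omega) p
  have := hpp.one_lt
  omega

theorem Fam.ne_bot (F : Fam p k A K X) : A ≠ ⊥ := by
  rintro rfl
  have hpp : p.Prime := Fact.out
  have hAk := F.card
  rw [card_bot] at hAk
  have h1 : p ≤ p ^ (k + 2) := Nat.le_self_pow (by omega) p
  have := hpp.one_lt
  omega

theorem Fam.exists_sub (F : Fam p k A K X) {D : Subgroup G} (hD : D ≤ A) {j : ℕ} (hcard : p ^ j ≤ Nat.card D) :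
    ∃ D₀ ≤ D, Nat.card D₀ = p ^ j := by
  have hpp : p.Prime := Fact.out
  obtain ⟨m, hm⟩ := IsPGroup.iff_card.mp (F.isPGroup.to_le hD)
  rw [hm] at hcard
  have hkm : j ≤ m := (Nat.pow_le_pow_iff_right hpp.one_lt).mp hcard
  obtain ⟨D₁, hD₁⟩ := Sylow.exists_subgroup_card_pow_prime p
    (show p ^ j ∣ Nat.card D by rw [hm]; exact pow_dvd_pow p hkm)
  refine ⟨D₁.map D.subtype, map_subtype_le D₁, ?_⟩
  rw [card_map_of_injective D.subtype_injective, hD₁]

theorem Fam.le_cent (F : Fam p k A K X) {D : Subgroup G} (hD : D ≤ A) (hc : p ^ k ≤ Nat.card D) :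
    X D ≤ centralizer (D : Set G) := by
  intro x hx
  rw [mem_centralizer_iff]
  intro d hd
  rcases eq_or_ne d 1 with rfl | hd1
  · rw [one_mul, mul_one]
  · exact mem_centralizer_iff.mp (F.cent d (hD hd) hd1 (F.le D hD hc d hd hd1 hx)) d rfl

theorem Fam.anti (F : Fam p k A K X) {D E : Subgroup G} (hE : E ≤ A) (h : D ≤ E) (hc : p ^ k ≤ Nat.card D) :
    X E ≤ X D := by
  have hcE : p ^ k ≤ Nat.card E := hc.trans (card_le_of_le h)
  intro x hx
  refine F.bal E hE hcE D (h.trans hE) hc ⟨hx, ?_⟩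
  exact centralizer_le h (F.le_cent hE hcE hx)

theorem Fam.cardF (F : Fam p k A K X) {j : ℕ} {E : Subgroup G} (hE : E ≤ A) (hEc : p ^ (j + 1) ≤ Nat.card E)
    {B : Subgroup G} (hB : B ≤ E) (hi : B.relIndex E ≤ p) : p ^ j ≤ Nat.card B := by
  have hpp : p.Prime := Fact.out
  have h1 : Nat.card B * B.relIndex E = Nat.card E := by
    have := relIndex_mul_relIndex (⊥ : Subgroup G) B E bot_le hB
    rwa [relIndex_bot_left, relIndex_bot_left] at this
  have h2 : p ^ j * p ≤ Nat.card B * p := by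
    calc p ^ j * p = p ^ (j + 1) := by ring
      _ ≤ Nat.card E := hEc
      _ = Nat.card B * B.relIndex E := h1.symm
      _ ≤ Nat.card B * p := Nat.mul_le_mul_left _ hi
  exact Nat.le_of_mul_le_mul_right h2 hpp.pos

theorem Fam.coprimeX (F : Fam p k A K X) {D : Subgroup G} (hD : D ≤ A) (hc : p ^ k ≤ Nat.card D) :
    ¬ p ∣ Nat.card (X D) := by
  obtain ⟨a, ha, ha1⟩ := F.card_ne hc
  exact fun h => F.coprime a (hD ha) ha1 (h.trans (card_dvd_of_le (F.le D hD hc a ha ha1)))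

/-- the functor in terms of the large subgroups containing `a` -/
theorem Fam.th_eq (F : Fam p k A K X) {a : G} (ha : a ∈ A) (ha1 : a ≠ 1) :
    th X A (p ^ k) a = ⨆ E : {D : Subgroup G | D ≤ A ∧ a ∈ D ∧ p ^ k ≤ Nat.card D}, X (E : Subgroup G) := by
  apply le_antisymm
  · refine iSup_le ?_
    rintro ⟨D, hDA, hDc⟩
    have hzA : zpowers a ≤ A := by rwa [zpowers_le]
    have hE : D ⊔ zpowers a ∈ {D : Subgroup G | D ≤ A ∧ a ∈ D ∧ p ^ k ≤ Nat.card D} := by
      refine ⟨sup_le hDA hzA, mem_sup_right (mem_zpowers a), ?_⟩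
      rw [← hDc]
      exact card_le_of_le le_sup_left
    refine le_iSup_of_le (⟨D ⊔ zpowers a, hE⟩ :
      {D : Subgroup G | D ≤ A ∧ a ∈ D ∧ p ^ k ≤ Nat.card D}) ?_
    rintro x ⟨hxD, hxa⟩
    refine F.bal D hDA hDc.ge _ hE.1 hE.2.2 ⟨hxD, ?_⟩
    have hxC : D ⊔ zpowers a ≤ centralizer ({x} : Set G) := by
      refine sup_le ?_ ?_
      · intro d hd
        rw [mem_centralizer_singleton_iff]
        exact mem_centralizer_iff.mp (F.le_cent hDA hDc.ge hxD) d hd
      · rw [zpowers_le, mem_centralizer_singleton_iff]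
        exact mem_centralizer_iff.mp hxa a rfl
    refine mem_centralizer_iff.2 ?_
    intro e he
    exact mem_centralizer_singleton_iff.mp (hxC he)
  · refine iSup_le ?_
    rintro ⟨E, hEA, haE, hEc⟩
    obtain ⟨D₀, hD₀, hc⟩ := F.exists_sub hEA hEc
    refine le_iSup_of_le (⟨D₀, hD₀.trans hEA, hc⟩ : {D : Subgroup G // D ≤ A ∧ Nat.card ↥D = p ^ k}) ?_
    refine le_inf (F.anti hEA hD₀ hc.ge) ?_
    exact (F.le E hEA hEc a haE ha1).trans (F.cent a ha ha1)

theorem Fam.th_le (F : Fam p k A K X) {a : G} (ha : a ∈ A) (ha1 : a ≠ 1) : th X A (p ^ k) a ≤ K a := by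
  rw [F.th_eq ha ha1]
  refine iSup_le ?_
  rintro ⟨E, hEA, haE, hEc⟩
  exact F.le E hEA hEc a haE ha1

theorem Fam.th_inv (F : Fam p k A K X) {a : G} (ha : a ∈ A) (ha1 : a ≠ 1) :
    ∀ b ∈ A, ∀ x ∈ th X A (p ^ k) a, b * x * b⁻¹ ∈ th X A (p ^ k) a := by
  intro b hb
  rw [F.th_eq ha ha1]
  refine NormalFunctor.conj_mem_iSup _ _ b ?_
  intro E x hx
  exact mem_iSup_of_mem E (F.invX E E.2.1 E.2.2.2 b hb x hx)

theorem Fam.th_coprime (F : Fam p k A K X) {a : G} (ha : a ∈ A) (ha1 : a ≠ 1) :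
    ¬ p ∣ Nat.card (th X A (p ^ k) a) := fun h =>
  F.coprime a ha ha1 (h.trans (card_dvd_of_le (F.th_le ha ha1)))

theorem Fam.th_inf (F : Fam p k A K X) {a : G} (ha : a ∈ A) (ha1 : a ≠ 1) {D : Subgroup G} (hD : D ≤ A)
    (haD : a ∈ D) (hc : p ^ k ≤ Nat.card D) : th X A (p ^ k) a ⊓ centralizer (D : Set G) ≤ X D := by
  have hpp : p.Prime := Fact.out
  have hAC : ∀ D ≤ A, A ≤ centralizer (D : Set G) := by
    intro D hD a ha
    rw [mem_centralizer_iff]
    intro d hd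
    exact F.comm (hD hd) ha
  let 𝒟 : Set (Subgroup G) := {D | D ≤ A ∧ a ∈ D ∧ p ^ k ≤ Nat.card D}
  let ℱ : Set (Subgroup G) := {F | F ≤ A ∧ a ∈ F ∧ F.relIndex A ≤ p}
  have hFD : ℱ ⊆ 𝒟 := by
    rintro B ⟨hBA, haB, hi⟩
    refine ⟨hBA, haB, le_trans ?_ (F.cardF (j := k + 1) le_rfl F.card hBA hi)⟩
    exact Nat.pow_le_pow_right hpp.pos (Nat.le_succ k)
  have hint : ∀ F ∈ ℱ, ∀ F' ∈ ℱ, ∃ D ∈ 𝒟, D ≤ F ∧ D ≤ F' := by
    rintro B ⟨hFA, haF, hi⟩ B' ⟨hFA', haF', hi'⟩
    refine ⟨B ⊓ B', ⟨inf_le_left.trans hFA, ⟨haF, haF'⟩, ?_⟩, inf_le_left, inf_le_right⟩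
    have h1 : Nat.card ↥(B ⊓ B') * (B ⊓ B').relIndex A = Nat.card A := by
      have := relIndex_mul_relIndex (⊥ : Subgroup G) (B ⊓ B') A bot_le (inf_le_left.trans hFA)
      rwa [relIndex_bot_left, relIndex_bot_left] at this
    have h3 : (B ⊓ B').relIndex A ≤ p * p :=
      (relIndex_inf_le (H := B) (K := B') (L := A)).trans (Nat.mul_le_mul hi hi')
    have h2 : p ^ k * (p * p) ≤ Nat.card ↥(B ⊓ B') * (p * p) := by
      calc p ^ k * (p * p) = p ^ (k + 2) := by ring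
        _ ≤ Nat.card A := F.card
        _ = Nat.card ↥(B ⊓ B') * (B ⊓ B').relIndex A := h1.symm
        _ ≤ Nat.card ↥(B ⊓ B') * (p * p) := Nat.mul_le_mul_left _ h3
    exact Nat.le_of_mul_le_mul_right h2 (Nat.mul_pos hpp.pos hpp.pos)
  rw [F.th_eq ha ha1]
  refine NormalFunctor.iSup_inf_centralizer_le_aux (p := p) A F.isPGroup 𝒟 ℱ (fun D hD => hD.1) hFD
    hint _ (K a) X rfl (F.solv a ha ha1) (F.coprime a ha ha1) (F.inv a ha ha1) ?_ ?_ ?_ ?_ ?_ ?_ D
    ⟨hD, haD, hc⟩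
  · intro K' hK hKA
    have hKc : K' ≤ centralizer ((zpowers a : Subgroup G) : Set G) := by
      intro x hx
      have h1 : zpowers a ≤ centralizer ({x} : Set G) := by
        rw [zpowers_le, mem_centralizer_singleton_iff]
        exact mem_centralizer_iff.mp (F.cent a ha ha1 (hK hx)) a rfl
      rw [mem_centralizer_iff]
      intro y hy
      exact mem_centralizer_singleton_iff.mp (h1 hy)
    refine (S1299.gen F.elem F.ne_bot K' (zpowers a)
      (fun h => F.coprime a ha ha1 (h.trans (card_dvd_of_le hK))) hKA (by rwa [zpowers_le]) hKc).trans ?_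
    refine iSup_le ?_
    rintro ⟨B, hBA, haB, hi⟩
    exact le_iSup_of_le (⟨B, hBA, haB (mem_zpowers a), hi⟩ : ℱ) le_rfl
  · intro D hD
    exact F.le D hD.1 hD.2.2 a hD.2.1 ha1
  · intro D hD
    exact F.le_cent hD.1 hD.2.2
  · intro D hD h hh hh' x hx
    exact F.conj D hD.1 hD.2.2 a hD.2.1 ha1 h hh hh' x hx
  · intro D hD b hb x hx
    exact F.invX D hD.1 hD.2.2 b hb x hx
  · intro D hD E hE
    exact F.bal D hD.1 hD.2.2 E hE.1 hE.2.2

theorem Fam.th_bal (F : Fam p k A K X) {a b : G} (ha : a ∈ A) (ha1 : a ≠ 1) (hb : b ∈ A) (hb1 : b ≠ 1) :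
    th X A (p ^ k) a ⊓ centralizer {b} ≤ th X A (p ^ k) b := by
  have hpp : p.Prime := Fact.out
  let K' : Subgroup G := th X A (p ^ k) a ⊓ centralizer {b}
  have hKA : ∀ c ∈ A, ∀ x ∈ K', c * x * c⁻¹ ∈ K' := by
    rintro c hc x ⟨hx1, hx2⟩
    refine ⟨F.th_inv ha ha1 c hc x hx1, ?_⟩
    have hc' : c ∈ centralizer ({b} : Set G) := by
      rw [mem_centralizer_iff]
      intro y hy
      rw [Set.mem_singleton_iff.mp hy]
      exact F.comm hb hc
    exact (centralizer ({b} : Set G)).mul_mem ((centralizer ({b} : Set G)).mul_mem hc' hx2)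
      ((centralizer ({b} : Set G)).inv_mem hc')
  have hKc : K' ≤ centralizer ((zpowers a ⊔ zpowers b : Subgroup G) : Set G) := by
    rintro x ⟨hx1, hx2⟩
    have h1 : zpowers a ⊔ zpowers b ≤ centralizer ({x} : Set G) := by
      refine sup_le ?_ ?_
      · rw [zpowers_le, mem_centralizer_singleton_iff]
        exact mem_centralizer_iff.mp (F.cent a ha ha1 (F.th_le ha ha1 hx1)) a rfl
      · rw [zpowers_le, mem_centralizer_singleton_iff]
        exact mem_centralizer_iff.mp hx2 b rfl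
    rw [mem_centralizer_iff]
    intro y hy
    exact mem_centralizer_singleton_iff.mp (h1 hy)
  refine (S1299.gen F.elem F.ne_bot K' (zpowers a ⊔ zpowers b)
    (fun h => F.th_coprime ha ha1 (h.trans (card_dvd_of_le inf_le_left)))
    hKA (sup_le (by rwa [zpowers_le]) (by rwa [zpowers_le])) hKc).trans ?_
  refine iSup_le ?_
  rintro ⟨B, hBA, habB, hi⟩
  have haB : a ∈ B := habB (mem_sup_left (mem_zpowers a))
  have hbB : b ∈ B := habB (mem_sup_right (mem_zpowers b))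
  have hc : p ^ k ≤ Nat.card B := by
    refine le_trans ?_ (F.cardF (j := k + 1) le_rfl F.card hBA hi)
    exact Nat.pow_le_pow_right hpp.pos (Nat.le_succ k)
  have h1 : K' ⊓ centralizer (B : Set G) ≤ X B :=
    (inf_le_inf_right _ inf_le_left).trans (F.th_inf ha ha1 hBA haB hc)
  refine h1.trans ?_
  rw [F.th_eq hb hb1]
  exact le_iSup_of_le (⟨B, hBA, hbB, hc⟩ :
    {D : Subgroup G | D ≤ A ∧ b ∈ D ∧ p ^ k ≤ Nat.card D}) le_rfl

/-- `θ` is a signalizer functor -/
theorem Fam.functor (F : Fam p k A K X) : IsSignalizerFunctor p A (th X A (p ^ k)) := by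
  refine ⟨?_, fun a ha ha1 => F.th_coprime ha ha1, fun a ha ha1 => F.th_inv ha ha1, ?_⟩
  · intro a ha ha1
    exact iSup_le fun D => inf_le_right
  · intro a ha ha1 b hb hb1
    exact F.th_bal ha ha1 hb hb1

theorem Fam.normalizes (F : Fam p k A K X) {D : Subgroup G} (hD : D ≤ A) (hc : p ^ k ≤ Nat.card D)
    {E : Subgroup G} (hE : E ≤ A) : E ≤ normalizer (X D : Set G) := by
  intro x hx
  rw [mem_normalizer_iff]
  intro y
  refine ⟨fun hy => F.invX D hD hc x (hE hx) y hy, fun hy => ?_⟩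
  have h1 := F.invX D hD hc x⁻¹ (inv_mem (hE hx)) _ hy
  have h2 : x⁻¹ * (x * y * x⁻¹) * x⁻¹⁻¹ = y := by group
  rwa [h2] at h1

theorem Fam.elem_le (F : Fam p k A K X) {E : Subgroup G} (hE : E ≤ A) : IsElementaryAbelian p E :=
  ⟨⟨⟨fun x y => Subtype.ext (F.comm (hE x.2) (hE y.2))⟩⟩, fun x hx => F.elem.2 x (hE hx)⟩

/-- generation: `X D` lies in the join over any `E ≤ A` of order at least `p ^ (k + 1)` -/
theorem Fam.le_WW (F : Fam p k A K X) {D E : Subgroup G} (hD : D ≤ A) (hc : p ^ k ≤ Nat.card D) (hE : E ≤ A)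
    (hEc : p ^ (k + 1) ≤ Nat.card E) : X D ≤ WW X E (p ^ k) := by
  have hpp : p.Prime := Fact.out
  have hE1 : E ≠ ⊥ := by
    rintro rfl
    rw [card_bot] at hEc
    have h1 : p ≤ p ^ (k + 1) := Nat.le_self_pow (by omega) p
    have := hpp.one_lt
    omega
  have h1 := Lib.CoprimeHyperplane.iSup_centralizer_hyperplane (F.elem_le hE) hE1
    (F.coprimeX hD hc) (F.normalizes hD hc hE)
  rw [← h1]
  refine iSup_le ?_
  rintro ⟨B, hBE, hBi⟩
  have h3 : p ^ k ≤ Nat.card B := F.cardF hE hEc hBE hBi.le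
  obtain ⟨D₀, hD₀, hD₀c⟩ := F.exists_sub (hBE.trans hE) h3
  refine le_trans ?_ (KFamily.le_WW (hD₀.trans hBE) hD₀c)
  refine le_trans ?_ (F.anti (hBE.trans hE) hD₀ hD₀c.ge)
  exact F.bal D hD hc B (hBE.trans hE) h3

theorem Fam.WW_eq (F : Fam p k A K X) {E : Subgroup G} (hE : E ≤ A) (hEc : p ^ (k + 1) ≤ Nat.card E) :
    WW X E (p ^ k) = WW X A (p ^ k) := by
  apply le_antisymm
  · exact WW_mono hE _
  · refine iSup_le ?_
    rintro ⟨D, hD, hDc⟩
    exact F.le_WW hD hDc.ge hE hEc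

theorem Fam.iSup_th (F : Fam p k A K X) :
    (⨆ a : {a : G // a ∈ A ∧ a ≠ 1}, th X A (p ^ k) a) = WW X A (p ^ k) := by
  have hpp : p.Prime := Fact.out
  apply le_antisymm
  · refine iSup_le fun a => iSup_le fun D => ?_
    exact inf_le_left.trans (KFamily.le_WW D.2.1 D.2.2)
  · refine iSup_le ?_
    rintro ⟨D, hD, hDc⟩
    have hS4 : p ^ 2 ≤ Nat.card A := le_trans (Nat.pow_le_pow_right hpp.pos (by omega)) F.card
    refine (CoprimeGen.le_iSup_centralizer_ne_one F.elem hS4 (F.coprimeX hD hDc.ge)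
      (F.normalizes hD hDc.ge le_rfl)).trans ?_
    refine iSup_mono ?_
    rintro ⟨a, ha, ha1⟩
    exact le_iSup (fun D : {D : Subgroup G // D ≤ A ∧ Nat.card D = p ^ k} =>
      X (D : Subgroup G) ⊓ centralizer {a}) ⟨D, hD, hDc⟩

end

section two

variable [Finite G] {k : ℕ} {A : Subgroup G} {K : G → Subgroup G} {X : Subgroup G → Subgroup G}

theorem Fam.solv_th (F : Fam 2 k A K X) {a : G} (ha : a ∈ A) (ha1 : a ≠ 1) :
    Group.IsSolvable (th X A (2 ^ k) a) := by
  have := F.solv a ha ha1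
  exact Group.isSolvable_of_isSolvable_injective (Subgroup.inclusion_injective (F.th_le ha ha1))

theorem Fam.main (F : Fam 2 k A K X) : ¬ 2 ∣ Nat.card (WW X A (2 ^ k)) ∧
    ∀ a ∈ A, a ≠ 1 → WW X A (2 ^ k) ⊓ centralizer {a} = th X A (2 ^ k) a := by
  have h8 : 2 ^ 3 ≤ Nat.card A := le_trans (Nat.pow_le_pow_right two_pos (by have := F.one_le; omega)) F.card
  have h := SFTwo.result A (fun a ha b hb => F.comm ha hb) F.elem.2 h8 (th X A (2 ^ k))
    (F.functor.1) F.functor.2.1 F.functor.2.2.1 (fun a ha ha1 => F.solv_th ha ha1) F.functor.2.2.2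
  rw [F.iSup_th] at h
  exact h

/-- `W` has odd order -/
theorem Fam.odd (F : Fam 2 k A K X) : ¬ 2 ∣ Nat.card (WW X A (2 ^ k)) := F.main.1

/-- `C_W(D) = X D` -/
theorem Fam.inf_centralizer (F : Fam 2 k A K X) {D : Subgroup G} (hD : D ≤ A) (hc : 2 ^ k ≤ Nat.card D) :
    WW X A (2 ^ k) ⊓ centralizer (D : Set G) = X D := by
  obtain ⟨a, ha, ha1⟩ := F.card_ne hc
  apply le_antisymm
  · rintro x ⟨hx1, hx2⟩
    refine F.th_inf (hD ha) ha1 hD ha hc ⟨?_, hx2⟩
    rw [← F.main.2 a (hD ha) ha1]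
    refine ⟨hx1, mem_centralizer_iff.2 ?_⟩
    intro y hy
    rw [Set.mem_singleton_iff.mp hy]
    exact mem_centralizer_iff.mp hx2 a ha
  · refine le_inf ?_ (F.le_cent hD hc)
    obtain ⟨D₀, hD₀, hD₀c⟩ := F.exists_sub hD hc
    exact (F.anti hD hD₀ hD₀c.ge).trans (KFamily.le_WW (hD₀.trans hD) hD₀c)

/-- `C_W(a) = θ a ≤ K a` -/
theorem Fam.inf_singleton_le (F : Fam 2 k A K X) {a : G} (ha : a ∈ A) (ha1 : a ≠ 1) :
    WW X A (2 ^ k) ⊓ centralizer {a} ≤ K a := by
  rw [F.main.2 a ha ha1]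
  exact F.th_le ha ha1

/-- every `A`-invariant subgroup `N` of odd order with `N ⊓ C(D) ≤ X D` for all `D ≤ A` of order `2 ^ (k+1)` lies in `W` -/
theorem Fam.le_of_hyperplane (F : Fam 2 k A K X) {N : Subgroup G} (hN : ¬ 2 ∣ Nat.card N)
    {E : Subgroup G} (hE : E ≤ A) (hEc : 2 ^ (k + 1) ≤ Nat.card E) (hEN : E ≤ normalizer (N : Set G))
    (hle : ∀ D ≤ E, 2 ^ k ≤ Nat.card D → N ⊓ centralizer (D : Set G) ≤ X D) : N ≤ WW X A (2 ^ k) := by
  have hE1 : E ≠ ⊥ := by
    rintro rfl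
    rw [card_bot] at hEc
    have h1 : 2 ≤ 2 ^ (k + 1) := Nat.le_self_pow (by omega) 2
    omega
  have h1 := Lib.CoprimeHyperplane.iSup_centralizer_hyperplane (F.elem_le hE) hE1 hN hEN
  rw [← h1]
  refine iSup_le ?_
  rintro ⟨B, hBE, hBi⟩
  have h3 : 2 ^ k ≤ Nat.card B := F.cardF hE hEc hBE hBi.le
  refine (hle B hBE h3).trans ?_
  rw [← F.inf_centralizer (hBE.trans hE) h3]
  exact inf_le_left

end two

/-! ### conjugation -/

/-- equivariance of the family -/
def Equi (X : Subgroup G → Subgroup G) : Prop :=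
  ∀ (D : Subgroup G) (g : G), (X D).map (MulAut.conj g).toMonoidHom ≤ X (D.map (MulAut.conj g).toMonoidHom)

theorem WW_conj_le {X : Subgroup G → Subgroup G} (h : Equi X) (E : Subgroup G) (c : ℕ) (g : G) :
    (WW X E c).map (MulAut.conj g).toMonoidHom ≤ WW X (E.map (MulAut.conj g).toMonoidHom) c := by
  rw [WW, Subgroup.map_iSup]
  refine iSup_le ?_
  rintro ⟨D, hD, hDc⟩
  refine (h D g).trans (le_WW (map_mono hD) ?_)
  rw [card_map_of_injective (MulAut.conj g).injective, hDc]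

theorem normalizer_le_normalizer_WW [Finite G] {X : Subgroup G → Subgroup G} (h : Equi X) (E : Subgroup G)
    (c : ℕ) : normalizer (E : Set G) ≤ normalizer (WW X E c : Set G) := by
  intro g hg
  have key : (WW X E c).map (MulAut.conj g).toMonoidHom ≤ WW X E c := by
    have h1 := WW_conj_le h E c g
    have h2 : E.map (MulAut.conj g).toMonoidHom = E := mem_normalizer_iff_map_conj_eq.1 hg
    rwa [h2] at h1
  rw [mem_normalizer_iff_map_conj_eq]
  exact eq_of_le_of_card_ge key (by rw [card_map_of_injective (MulAut.conj g).injective])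

/-- `N_G(E) ≤ N_G(W)` for `E ≤ A` of order at least `p ^ (k + 1)` -/
theorem Fam.normalizer_le [Finite G] {p k : ℕ} [Fact p.Prime] {A : Subgroup G} {K : G → Subgroup G}
    {X : Subgroup G → Subgroup G} (F : Fam p k A K X) (h : Equi X) {E : Subgroup G} (hE : E ≤ A)
    (hEc : p ^ (k + 1) ≤ Nat.card E) : normalizer (E : Set G) ≤ normalizer (WW X A (p ^ k) : Set G) := by
  rw [← F.WW_eq hE hEc]
  exact normalizer_le_normalizer_WW h E _

/-! ### the standard family `Δ(D)` -/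

theorem delta_equi [Finite G] (p : ℕ) [Fact p.Prime] : Equi (fun D : Subgroup G => signalizerDelta p D) := by
  rintro D g _ ⟨y, hy, rfl⟩
  refine mem_iInf.mpr ?_
  rintro ⟨_, ⟨a, ha, rfl⟩, ha1⟩
  have ha1' : a ≠ 1 := by
    rintro rfl
    exact ha1 (map_one _)
  have h1 := Dichotomy.CoreTools.core_conj p a g
  show (MulAut.conj g).toMonoidHom y ∈ centralizerPPrimeCore p (g * a * g⁻¹)
  rw [h1]
  exact ⟨y, S1299.delta_le p ha ha1' hy, rfl⟩

theorem ofDelta [Finite G] {p k : ℕ} [Fact p.Prime] (hk : 1 ≤ k) {A : Subgroup G}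
    (hA : IsElementaryAbelian p A) (hAk : p ^ (k + 2) ≤ Nat.card A)
    (hsolv : ∀ a ∈ A, a ≠ 1 → Group.IsSolvable ↥(centralizerPPrimeCore p a))
    (hbal : ∀ D ≤ A, Nat.card D = p ^ k → ∀ e ∈ A, e ≠ 1 →
      signalizerDelta p D ⊓ centralizer ({e} : Set G) ≤ centralizerPPrimeCore p e) :
    Fam p k A (centralizerPPrimeCore p) (signalizerDelta p) := by
  have hpp : p.Prime := Fact.out
  have hcomm : ∀ a ∈ A, ∀ b ∈ A, a * b = b * a := fun a ha b hb => by
    have h1 := hA.1.is_comm.comm (⟨a, ha⟩ : A) ⟨b, hb⟩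
    exact congrArg Subtype.val h1
  have hApg : IsPGroup p A := fun a => ⟨1, by
    apply Subtype.ext
    have := hA.2 a a.2
    simpa using this⟩
  have hsub : ∀ D : Subgroup G, D ≤ A → p ^ k ≤ Nat.card D → ∃ D₀ ≤ D, Nat.card D₀ = p ^ k := by
    intro D hD hcard
    obtain ⟨m, hm⟩ := IsPGroup.iff_card.mp (hApg.to_le hD)
    rw [hm] at hcard
    have hkm : k ≤ m := (Nat.pow_le_pow_iff_right hpp.one_lt).mp hcard
    obtain ⟨D₁, hD₁⟩ := Sylow.exists_subgroup_card_pow_prime p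
      (show p ^ k ∣ Nat.card D by rw [hm]; exact pow_dvd_pow p hkm)
    refine ⟨D₁.map D.subtype, map_subtype_le D₁, ?_⟩
    rw [card_map_of_injective D.subtype_injective, hD₁]
  refine ⟨hk, hA, hAk, hsolv, ?_, ?_, ?_, ?_, ?_, ?_, ?_⟩
  · intro a _ _ h
    exact (hpp.coprime_iff_not_dvd.mp (CoreOfCentralizer.card_centralizerPPrimeCore_coprime p a).symm) h
  · intro a ha _ b hb x hx
    have h1 : b ∈ centralizer ({a} : Set G) := by
      rw [mem_centralizer_iff]
      intro y hy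
      rw [Set.mem_singleton_iff.mp hy]
      exact hcomm a ha b hb
    exact (mem_normalizer_iff.mp
      (CoreOfCentralizer.centralizer_le_normalizer_centralizerPPrimeCore p a h1) x).mp hx
  · intro a _ _
    exact CoreOfCentralizer.centralizerPPrimeCore_le p a
  · intro D _ _ a ha ha1
    exact S1299.delta_le p ha ha1
  · intro D _ _ a _ _ h _ hh x hx
    exact S1299.conj_mem_delta p hh hx
  · intro D hD _ b hb x hx
    refine S1299.conj_mem_delta p ?_ hx
    rw [mem_centralizer_iff]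
    intro d hd
    exact hcomm d (hD hd) b hb
  · intro D hD hDc E hE _
    obtain ⟨D₀, hD₀, hc⟩ := hsub D hD hDc
    rintro x ⟨hx1, hx2⟩
    refine mem_iInf.mpr ?_
    rintro ⟨e, he, he1⟩
    refine hbal D₀ (hD₀.trans hD) hc e (hE he) he1 ⟨S1299.delta_antitone p hD₀ hx1, ?_⟩
    refine mem_centralizer_singleton_iff.2 ?_
    exact (mem_centralizer_iff.1 hx2 e he).symm

end Cfsg.Agent.Lib.KFamily

private theorem dce_19a2715d149e : _root_.True := by
  try have : _root_.True := by simp only [_root_.Cfsg.Agent.Lib.KFamily.WW.eq_1]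
  exact _root_.True.intro
end

-- part: LFourA/AltFunct
section
set_option linter.all false
open scoped Cfsg.Agent.FastGrp

/-!
# Case II: the cores are trivial (abstract form)

`E` is elementary abelian of order 16 with a set `T` of "t-type" elements meeting every four-group of `E`, such that
`O(C(d)) ∩ C(e) ≤ O(C(e))` for `d ∈ T`, `e ∈ E`, `e ≠ 1`. The 2-balanced functor gives `W` with `C_W(d) = O(C(d))` for
`d ∈ T`; `N(V) ≤ N(W)` for every four-group `V` with `V # ⊆ T`. `Inp` is the situation of the type `ALT`, and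
`core_eq_bot` says that `O(C(t)) = 1`.
-/

set_option autoImplicit false

namespace Cfsg.Agent.LFourA.AltFunct

open Subgroup Cfsg
open Cfsg.Agent.Lib.KFamily Cfsg.Agent.SignalizersComponents Cfsg.Agent.Dichotomy.CoreTools

variable {G : Type*} [Group G]

section first

/-- the abstract situation -/
structure TF (E : Subgroup G) (T : Set G) : Prop where
  elem : IsElementaryAbelian 2 E
  card : Nat.card E = 16
  sub : ∀ d ∈ T, d ∈ E ∧ d ≠ 1
  hit : ∀ D ≤ E, Nat.card D = 4 → ∃ d ∈ D, d ∈ T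
  bal : ∀ d ∈ T, ∀ e ∈ E, e ≠ 1 →
    centralizerPPrimeCore 2 d ⊓ centralizer ({e} : Set G) ≤ centralizerPPrimeCore 2 e
  solv : ∀ e ∈ E, e ≠ 1 → Group.IsSolvable ↥(centralizerPPrimeCore 2 e)

variable {E : Subgroup G} {T : Set G}

theorem TF.comm (h : TF E T) {a b : G} (ha : a ∈ E) (hb : b ∈ E) : a * b = b * a :=
  congrArg Subtype.val (h.elem.1.is_comm.comm (⟨a, ha⟩ : E) ⟨b, hb⟩)

theorem TF.le_centralizer (h : TF E T) {a : G} (ha : a ∈ E) : E ≤ centralizer ({a} : Set G) := fun _ hb =>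
  mem_centralizer_singleton_iff.2 (h.comm hb ha)

/-- the completion -/
def W (E : Subgroup G) : Subgroup G := WW (signalizerDelta 2) E (2 ^ 2)

variable [Finite G]

theorem TF.fam (h : TF E T) : Fam 2 2 E (centralizerPPrimeCore 2) (signalizerDelta 2) := by
  haveI : Fact (Nat.Prime 2) := ⟨Nat.prime_two⟩
  refine ofDelta (by norm_num) h.elem (by rw [h.card]; norm_num) h.solv ?_
  intro D hD hc e he he1
  obtain ⟨d, hd, hdT⟩ := h.hit D hD hc
  refine le_trans (inf_le_inf_right _ ?_) (h.bal d hdT e he he1)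
  exact Cfsg.Agent.S1299.delta_le 2 hd (h.sub d hdT).2

theorem TF.odd (h : TF E T) : ¬ 2 ∣ Nat.card (W E) := h.fam.odd

theorem TF.core_le (h : TF E T) {d : G} (hd : d ∈ T) : centralizerPPrimeCore 2 d ≤ W E := by
  haveI : Fact (Nat.Prime 2) := ⟨Nat.prime_two⟩
  refine h.fam.le_of_hyperplane (core_card 2 d) le_rfl (by rw [h.card]; norm_num)
    ((h.le_centralizer (h.sub d hd).1).trans (core_normalized 2 d)) ?_
  rintro D hD hc x ⟨hx1, hx2⟩
  refine mem_iInf.2 ?_
  rintro ⟨a, ha, ha1⟩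
  refine h.bal d hd a (hD ha) ha1 ⟨hx1, ?_⟩
  refine mem_centralizer_singleton_iff.2 ?_
  exact (mem_centralizer_iff.1 hx2 a ha).symm

theorem TF.inf_le (h : TF E T) {e : G} (he : e ∈ E) (he1 : e ≠ 1) :
    W E ⊓ centralizer ({e} : Set G) ≤ centralizerPPrimeCore 2 e := h.fam.inf_singleton_le he he1

theorem TF.normalizer_le (h : TF E T) : normalizer (E : Set G) ≤ normalizer (W E : Set G) := by
  haveI : Fact (Nat.Prime 2) := ⟨Nat.prime_two⟩
  exact h.fam.normalizer_le (delta_equi 2) le_rfl (by rw [h.card]; norm_num)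

theorem TF.E_le (h : TF E T) : E ≤ normalizer (W E : Set G) := le_normalizer.trans h.normalizer_le

/-- generation by a t-pure four-group -/
theorem TF.le_gen (h : TF E T) {V : Subgroup G} (hV : V ≤ E) (hc : Nat.card V = 4) {N : Subgroup G}
    (hN : ¬ 2 ∣ Nat.card N) (hVN : V ≤ normalizer (N : Set G)) {M : Subgroup G}
    (hM : ∀ v ∈ V, v ≠ 1 → N ⊓ centralizer ({v} : Set G) ≤ M) : N ≤ M := by
  haveI : Fact (Nat.Prime 2) := ⟨Nat.prime_two⟩
  refine (CoprimeGen.le_iSup_centralizer_ne_one (CoprimeGen.isElementaryAbelian_mono h.elem hV)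
    (by rw [hc]; norm_num) hN hVN).trans ?_
  refine iSup_le ?_
  rintro ⟨v, hv, hv1⟩
  exact hM v hv hv1

/-- `N(V) ≤ N(W)` for a t-pure four-group `V` -/
theorem TF.normalizer_four (h : TF E T) {V : Subgroup G} (hV : V ≤ E) (hc : Nat.card V = 4)
    (hT : ∀ v ∈ V, v ≠ 1 → v ∈ T) : normalizer (V : Set G) ≤ normalizer (W E : Set G) := by
  haveI : Fact (Nat.Prime 2) := ⟨Nat.prime_two⟩
  intro n hn
  have hVn : V.map (MulAut.conj n).toMonoidHom = V := mem_normalizer_iff_map_conj_eq.1 hn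
  have key : (W E).map (MulAut.conj n).toMonoidHom ≤ W E := by
    rw [map_le_iff_le_comap]
    refine h.le_gen hV hc h.odd (hV.trans h.E_le) ?_
    intro v hv hv1 x hx
    have h1 := h.inf_le (hV hv) hv1 hx
    have h2 : n * v * n⁻¹ ∈ V := by
      rw [← hVn]
      exact ⟨v, hv, rfl⟩
    have h3 : n * v * n⁻¹ ≠ 1 := by
      intro e
      exact hv1 (conj_eq_one_iff.1 e)
    apply h.core_le (hT _ h2 h3)
    rw [core_conj]
    exact ⟨x, h1, rfl⟩
  rw [mem_normalizer_iff_map_conj_eq]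
  exact eq_of_le_of_card_ge key (by rw [card_map_of_injective (MulAut.conj n).injective])

end first

/-! ### the situation of the type `ALT` -/

section second

/-- the element `t_ij` -/
def tt (u : Fin 5 → G) (i j : Fin 5) : G := u i * u j
/-- the element `z_5` -/
def zz (u : Fin 5 → G) : G := u 0 * u 1 * u 2 * u 3

/-- `u 0, u 1, u 2, u 3` generate `E`, `u 4 = 1`; `t_ij = u i * u j` -/
structure Inp (S : Sylow 2 G) (E : Subgroup G) (u : Fin 5 → G) : Prop where
  elem : IsElementaryAbelian 2 E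
  card : Nat.card E = 16
  mem : ∀ i, u i ∈ E
  four : u 4 = 1
  ne : ∀ i j, i ≠ j → tt u i j ≠ 1
  zne : zz u ≠ 1
  cover : ∀ e ∈ E, e = 1 ∨ (∃ i j, i ≠ j ∧ e = tt u i j) ∨ ∃ m, e = zz u * u m
  /-- all permutations of the five indices are induced by elements of `G` -/
  perm : ∀ σ : Equiv.Perm (Fin 5), ∃ n : G, ∀ i j, n * tt u i j * n⁻¹ = tt u (σ i) (σ j)
  adj : centralizerPPrimeCore 2 (tt u 0 2) ⊓ centralizer ({tt u 0 1} : Set G) ≤ centralizerPPrimeCore 2 (tt u 0 1)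
  disj : centralizerPPrimeCore 2 (tt u 2 3) ⊓ centralizer ({tt u 0 1} : Set G) ≤ centralizerPPrimeCore 2 (tt u 0 1)
  bz1 : centralizerPPrimeCore 2 (tt u 0 1) ⊓ centralizer ({zz u} : Set G) ≤ centralizerPPrimeCore 2 (zz u)
  bz2 : centralizerPPrimeCore 2 (tt u 0 4) ⊓ centralizer ({zz u} : Set G) ≤ centralizerPPrimeCore 2 (zz u)
  gen : ∀ M : Subgroup G, centralizerPPrimeCore 2 (tt u 0 1) ≤ M → normalizer (E : Set G) ≤ M →
    (∀ g, g * tt u 0 1 = tt u 0 1 * g → g * tt u 0 2 = tt u 0 2 * g → g ∈ M) →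
    (∀ g, g * tt u 0 1 = tt u 0 1 * g → g * tt u 0 4 = tt u 0 4 * g → g ∈ M) →
    centralizer ({tt u 0 1} : Set G) ≤ M
  cz : ∀ M : Subgroup G, centralizerPPrimeCore 2 (zz u) ≤ M → normalizer (E : Set G) ≤ M →
    centralizer ({zz u} : Set G) ≤ M
  nS : normalizer ((S : Subgroup G) : Set G) ≤ centralizer ({zz u} : Set G)
  cls : ∀ M : Subgroup G, normalizer (E : Set G) ≤ M → centralizer ({tt u 0 1} : Set G) ≤ M →
    centralizer ({zz u} : Set G) ≤ M → ∀ v ∈ (S : Subgroup G), orderOf v = 2 →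
      ∃ m ∈ M, m * tt u 0 1 * m⁻¹ = v ∨ m * zz u * m⁻¹ = v
  ntz : ¬ IsConj (tt u 0 1) (zz u)
  solv : ∀ e ∈ E, e ≠ 1 → Group.IsSolvable ↥(centralizerPPrimeCore 2 e)

variable {S : Sylow 2 G} {E : Subgroup G} {u : Fin 5 → G}

namespace Inp

variable (h : Inp S E u)

include h

theorem comm {a b : G} (ha : a ∈ E) (hb : b ∈ E) : a * b = b * a :=
  congrArg Subtype.val (h.elem.1.is_comm.comm (⟨a, ha⟩ : E) ⟨b, hb⟩)

theorem sq {a : G} (ha : a ∈ E) : a * a = 1 := by
  have := h.elem.2 a ha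
  rwa [pow_two] at this

theorem tt_mem (i j : Fin 5) : tt u i j ∈ E := mul_mem (h.mem i) (h.mem j)

theorem zz_mem : zz u ∈ E := mul_mem (mul_mem (mul_mem (h.mem 0) (h.mem 1)) (h.mem 2)) (h.mem 3)

theorem tt_symm (i j : Fin 5) : tt u i j = tt u j i := h.comm (h.mem i) (h.mem j)

/-- `z_m` as a product of two `t`s -/
theorem zz_eq (σ : Equiv.Perm (Fin 5)) : zz u * u (σ 4) = tt u (σ 0) (σ 1) * tt u (σ 2) (σ 3) := by
  have : IsMulCommutative E := h.elem.1
  letI : CommGroup E := { (inferInstance : Group E) with mul_comm := this.is_comm.comm }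
  let v : Fin 5 → E := fun i => ⟨u i, h.mem i⟩
  have h1 : ∏ i, v (σ i) = ∏ i, v i := Equiv.prod_comp σ v
  rw [Fin.prod_univ_five, Fin.prod_univ_five] at h1
  have h2 := congrArg Subtype.val h1
  have h3 : u (σ 0) * u (σ 1) * u (σ 2) * u (σ 3) * u (σ 4) = u 0 * u 1 * u 2 * u 3 * u 4 := h2
  rw [h.four, mul_one] at h3
  have h4 := h.sq (h.mem (σ 4))
  rw [zz, ← h3, mul_assoc, h4, mul_one, tt, tt, mul_assoc, mul_assoc]

/-- action on the elements of `z`-type -/
theorem conj_zz {n : G} {σ : Equiv.Perm (Fin 5)} (hn : ∀ i j, n * tt u i j * n⁻¹ = tt u (σ i) (σ j)) (m : Fin 5) :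
    n * (zz u * u m) * n⁻¹ = zz u * u (σ m) := by
  have h1 := h.zz_eq (Equiv.swap m 4)
  have h2 := h.zz_eq ((Equiv.swap m 4).trans σ)
  rw [Equiv.swap_apply_right] at h1
  rw [Equiv.trans_apply, Equiv.swap_apply_right] at h2
  rw [h1, h2]
  calc n * (tt u (Equiv.swap m 4 0) (Equiv.swap m 4 1) * tt u (Equiv.swap m 4 2) (Equiv.swap m 4 3)) * n⁻¹ =
      (n * tt u (Equiv.swap m 4 0) (Equiv.swap m 4 1) * n⁻¹) *
        (n * tt u (Equiv.swap m 4 2) (Equiv.swap m 4 3) * n⁻¹) := by group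
    _ = _ := by rw [hn, hn]; rfl

theorem conj_mem {n : G} {σ : Equiv.Perm (Fin 5)} (hn : ∀ i j, n * tt u i j * n⁻¹ = tt u (σ i) (σ j)) {e : G}
    (he : e ∈ E) : n * e * n⁻¹ ∈ E := by
  rcases h.cover e he with rfl | ⟨i, j, -, rfl⟩ | ⟨m, rfl⟩
  · rw [mul_one, mul_inv_cancel]; exact one_mem _
  · rw [hn]; exact h.tt_mem _ _
  · rw [h.conj_zz hn]; exact mul_mem h.zz_mem (h.mem _)

theorem zz_four : zz u * u 4 = zz u := by rw [h.four, mul_one]

variable [Finite G]

theorem mem_normalizer {n : G} {σ : Equiv.Perm (Fin 5)} (hn : ∀ i j, n * tt u i j * n⁻¹ = tt u (σ i) (σ j)) :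
    n ∈ normalizer (E : Set G) := by
  rw [mem_normalizer_iff_map_conj_eq]
  refine eq_of_le_of_card_ge ?_ (by rw [card_map_of_injective (MulAut.conj n).injective])
  rintro _ ⟨e, he, rfl⟩
  exact h.conj_mem hn he

/-- transport of balance -/
theorem transport {a b n : G} (hb : centralizerPPrimeCore 2 a ⊓ centralizer ({b} : Set G) ≤ centralizerPPrimeCore 2 b) :
    centralizerPPrimeCore 2 (n * a * n⁻¹) ⊓ centralizer ({n * b * n⁻¹} : Set G) ≤
      centralizerPPrimeCore 2 (n * b * n⁻¹) := by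
  rw [core_conj, core_conj, ← centralizer_conj]
  rintro x ⟨⟨y, hy, rfl⟩, ⟨y', hy', e⟩⟩
  have h1 : y' = y := (MulAut.conj n).injective e
  subst h1
  exact ⟨y', hb ⟨hy, hy'⟩, rfl⟩

end Inp

theorem perm_three : ∀ i j m : Fin 5, i ≠ j → i ≠ m → j ≠ m →
    ∃ σ : Equiv.Perm (Fin 5), σ 0 = i ∧ σ 1 = j ∧ σ 4 = m := by (set_option synthInstance.maxSize 9000 in open scoped Cfsg.Agent.Lib.FastPerm in decide +kernel)

theorem perm_two : ∀ i m : Fin 5, i ≠ m → ∃ σ : Equiv.Perm (Fin 5), σ 0 = i ∧ σ 4 = m := by (set_option synthInstance.maxSize 9000 in open scoped Cfsg.Agent.Lib.FastPerm in decide +kernel)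

theorem perm_pairs : ∀ i j k l : Fin 5, i ≠ j → k ≠ l → ((i = k ∧ j = l) ∨ (i = l ∧ j = k)) ∨
    (∃ σ : Equiv.Perm (Fin 5), ((σ 0 = i ∧ σ 2 = j) ∨ (σ 0 = j ∧ σ 2 = i)) ∧ ((σ 0 = k ∧ σ 1 = l) ∨ (σ 0 = l ∧ σ 1 = k))) ∨
    ∃ σ : Equiv.Perm (Fin 5), (σ 2 = i ∧ σ 3 = j) ∧ (σ 0 = k ∧ σ 1 = l) := by (set_option synthInstance.maxSize 9000 in open scoped Cfsg.Agent.Lib.FastPerm in decide +kernel)

/-- the four-group `{1, a, b, ab}` -/
def fourG (a b : G) (ha : a * a = 1) (hb : b * b = 1) (hab : a * b = b * a) : Subgroup G where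
  carrier := {x | x = 1 ∨ x = a ∨ x = b ∨ x = a * b}
  one_mem' := Or.inl rfl
  mul_mem' {x y} hx hy := by
    have e1 : a * (a * b) = b := by rw [← mul_assoc, ha, one_mul]
    have e2 : b * (a * b) = a := by rw [hab, ← mul_assoc, hb, one_mul]
    have e3 : a * b * a = b := by rw [hab, mul_assoc, ha, mul_one]
    have e4 : a * b * b = a := by rw [mul_assoc, hb, mul_one]
    have e5 : a * b * (a * b) = 1 := by rw [← mul_assoc, e3, hb]
    rcases hx with rfl | rfl | rfl | rfl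
    · rw [one_mul]; exact hy
    · rcases hy with rfl | rfl | rfl | rfl
      · rw [mul_one]; exact Or.inr (Or.inl rfl)
      · exact Or.inl ha
      · exact Or.inr (Or.inr (Or.inr rfl))
      · exact Or.inr (Or.inr (Or.inl e1))
    · rcases hy with rfl | rfl | rfl | rfl
      · rw [mul_one]; exact Or.inr (Or.inr (Or.inl rfl))
      · exact Or.inr (Or.inr (Or.inr hab.symm))
      · exact Or.inl hb
      · exact Or.inr (Or.inl e2)
    · rcases hy with rfl | rfl | rfl | rfl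
      · rw [mul_one]; exact Or.inr (Or.inr (Or.inr rfl))
      · exact Or.inr (Or.inr (Or.inl e3))
      · exact Or.inr (Or.inl e4)
      · exact Or.inl e5
  inv_mem' {x} hx := by
    have e5 : a * b * (a * b) = 1 := by
      calc a * b * (a * b) = a * (b * a) * b := by group
        _ = a * (a * b) * b := by rw [hab]
        _ = (a * a) * (b * b) := by group
        _ = 1 := by rw [ha, hb, one_mul]
    rcases hx with rfl | rfl | rfl | rfl
    · rw [inv_one]; exact Or.inl rfl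
    · rw [inv_eq_of_mul_eq_one_left ha]; exact Or.inr (Or.inl rfl)
    · rw [inv_eq_of_mul_eq_one_left hb]; exact Or.inr (Or.inr (Or.inl rfl))
    · rw [inv_eq_of_mul_eq_one_left e5]; exact Or.inr (Or.inr (Or.inr rfl))

theorem mem_fourG {a b : G} {ha : a * a = 1} {hb : b * b = 1} {hab : a * b = b * a} {x : G} :
    x ∈ fourG a b ha hb hab ↔ x = 1 ∨ x = a ∨ x = b ∨ x = a * b := Iff.rfl

theorem card_fourG {a b : G} {ha : a * a = 1} {hb : b * b = 1} {hab : a * b = b * a} (ha1 : a ≠ 1) (hb1 : b ≠ 1)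
    (hne : a * b ≠ 1) : Nat.card (fourG a b ha hb hab) = 4 := by
  classical
  have hne' : a ≠ b := by
    rintro rfl
    exact hne ha
  have h1 : Nat.card (fourG a b ha hb hab) = Nat.card (({1, a, b, a * b} : Finset G) : Type _) := by
    apply Nat.card_congr
    apply Equiv.subtypeEquivRight
    intro x
    rw [mem_fourG]
    simp
  rw [h1, Nat.card_eq_fintype_card, Fintype.card_coe, Finset.card_insert_of_notMem, Finset.card_insert_of_notMem,
    Finset.card_insert_of_notMem, Finset.card_singleton]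
  · rw [Finset.mem_singleton]
    intro e
    exact ha1 (right_eq_mul.1 e)
  · simp only [Finset.mem_insert, Finset.mem_singleton, not_or]
    refine ⟨hne', fun e => hb1 (left_eq_mul.1 e)⟩
  · simp only [Finset.mem_insert, Finset.mem_singleton, not_or]
    exact ⟨fun e => ha1 e.symm, fun e => hb1 e.symm, fun e => hne e.symm⟩

namespace Inp

variable [Finite G] (h : Inp S E u)

include h

theorem bal {i j : Fin 5} (hij : i ≠ j) {e : G} (he : e ∈ E) (he1 : e ≠ 1) :
    centralizerPPrimeCore 2 (tt u i j) ⊓ centralizer ({e} : Set G) ≤ centralizerPPrimeCore 2 e := by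
  rcases h.cover e he with rfl | ⟨k, l, hkl, rfl⟩ | ⟨m, rfl⟩
  · exact absurd rfl he1
  · rcases perm_pairs i j k l hij hkl with (⟨rfl, rfl⟩ | ⟨rfl, rfl⟩) | ⟨σ, h1, h2⟩ | ⟨σ, ⟨rfl, rfl⟩, ⟨rfl, rfl⟩⟩
    · exact inf_le_left
    · rw [h.tt_symm i j]
      exact inf_le_left
    · obtain ⟨n, hn⟩ := h.perm σ
      have h3 := h.transport (n := n) h.adj
      rw [hn, hn] at h3
      have e1 : tt u i j = tt u (σ 0) (σ 2) := by
        rcases h1 with ⟨rfl, rfl⟩ | ⟨rfl, rfl⟩
        · rfl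
        · exact h.tt_symm _ _
      have e2 : tt u k l = tt u (σ 0) (σ 1) := by
        rcases h2 with ⟨rfl, rfl⟩ | ⟨rfl, rfl⟩
        · rfl
        · exact h.tt_symm _ _
      rw [e1, e2]
      exact h3
    · obtain ⟨n, hn⟩ := h.perm σ
      have h3 := h.transport (n := n) h.disj
      rwa [hn, hn] at h3
  · -- `z`-type
    have key : ∀ a m : Fin 5, a ≠ m → centralizerPPrimeCore 2 (tt u a m) ⊓ centralizer ({zz u * u m} : Set G) ≤
        centralizerPPrimeCore 2 (zz u * u m) := by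
      intro a m ham
      obtain ⟨σ, rfl, rfl⟩ := perm_two a m ham
      obtain ⟨n, hn⟩ := h.perm σ
      have h3 := h.transport (n := n) h.bz2
      have h4 := h.conj_zz hn 4
      rw [h.zz_four] at h4
      rwa [hn, h4] at h3
    rcases eq_or_ne m j with rfl | hmj
    · exact key i m hij
    rcases eq_or_ne m i with rfl | hmi
    · rw [h.tt_symm]
      exact key j m hij.symm
    obtain ⟨σ, rfl, rfl, rfl⟩ := perm_three i j m hij hmi.symm hmj.symm
    obtain ⟨n, hn⟩ := h.perm σ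
    have h3 := h.transport (n := n) h.bz1
    have h4 := h.conj_zz hn 4
    rw [h.zz_four] at h4
    rwa [hn, h4] at h3

theorem tf : TF E {d | ∃ i j, i ≠ j ∧ d = tt u i j} := by
  refine ⟨h.elem, h.card, ?_, ?_, ?_, h.solv⟩
  · rintro d ⟨i, j, hij, rfl⟩
    exact ⟨h.tt_mem i j, h.ne i j hij⟩
  · intro D hD hc
    by_contra hno
    push Not at hno
    have hz : ∀ a ∈ D, a ≠ 1 → ∃ m, a = zz u * u m := by
      intro a ha ha1
      rcases h.cover a (hD ha) with h1 | h1 | h1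
      · exact absurd h1 ha1
      · exact absurd h1 (hno a ha)
      · exact h1
    obtain ⟨a, ha, ha1⟩ : ∃ a ∈ D, a ≠ 1 := by
      by_contra h0
      push Not at h0
      have : D = ⊥ := (eq_bot_iff_forall D).mpr h0
      rw [this, card_bot] at hc
      norm_num at hc
    obtain ⟨b, hb, hb1, hba⟩ : ∃ b ∈ D, b ≠ 1 ∧ b ≠ a := by
      by_contra h0
      push Not at h0
      have hle : D ≤ zpowers a := by
        intro y hy
        by_cases hy1 : y = 1
        · rw [hy1]; exact one_mem _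
        · rw [h0 y hy hy1]; exact mem_zpowers a
      have h1 := card_le_of_le hle
      rw [hc, Nat.card_zpowers, orderOf_eq_prime (p := 2) (by rw [pow_two]; exact h.sq (hD ha)) ha1] at h1
      norm_num at h1
    obtain ⟨m, hm⟩ := hz a ha ha1
    obtain ⟨m', hm'⟩ := hz b hb hb1
    have hne : m ≠ m' := by
      rintro rfl
      exact hba (hm'.trans hm.symm)
    refine hno (a * b) (mul_mem ha hb) ⟨m, m', hne, ?_⟩
    rw [hm, hm', h.comm h.zz_mem (h.mem m), mul_assoc, ← mul_assoc (zz u), h.sq h.zz_mem, one_mul, tt]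
  · rintro d ⟨i, j, hij, rfl⟩ e he he1
    exact h.bal hij he he1

/-- `t_ij t_ik = t_jk` -/
theorem tt_mul (i j k : Fin 5) : tt u i j * tt u i k = tt u j k := by
  rw [tt, tt, tt, h.comm (h.mem i) (h.mem j), mul_assoc, ← mul_assoc (u i), h.sq (h.mem i), one_mul]

/-- the four-group of `i, j, k` -/
theorem four_le {i j k : Fin 5} (hij : i ≠ j) (hik : i ≠ k) (hjk : j ≠ k) : ∃ V ≤ E, Nat.card V = 4 ∧
    (∀ v, v ∈ V ↔ v = 1 ∨ v = tt u i j ∨ v = tt u i k ∨ v = tt u j k) ∧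
    normalizer (V : Set G) ≤ normalizer (W E : Set G) := by
  have hm := h.tt_mul i j k
  have hmem : ∀ v, v ∈ fourG (tt u i j) (tt u i k) (h.sq (h.tt_mem _ _)) (h.sq (h.tt_mem _ _))
      (h.comm (h.tt_mem _ _) (h.tt_mem _ _)) ↔ v = 1 ∨ v = tt u i j ∨ v = tt u i k ∨ v = tt u j k := by
    intro v
    rw [mem_fourG, hm]
  refine ⟨fourG (tt u i j) (tt u i k) (h.sq (h.tt_mem _ _)) (h.sq (h.tt_mem _ _))
      (h.comm (h.tt_mem _ _) (h.tt_mem _ _)), ?_, ?_, hmem, ?_⟩
  · intro v hv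
    rcases (hmem v).1 hv with rfl | rfl | rfl | rfl
    · exact one_mem _
    · exact h.tt_mem _ _
    · exact h.tt_mem _ _
    · exact h.tt_mem _ _
  · exact card_fourG (h.ne _ _ hij) (h.ne _ _ hik) (by rw [hm]; exact h.ne _ _ hjk)
  · refine h.tf.normalizer_four ?_ ?_ ?_
    · intro v hv
      rcases (hmem v).1 hv with rfl | rfl | rfl | rfl
      · exact one_mem _
      · exact h.tt_mem _ _
      · exact h.tt_mem _ _
      · exact h.tt_mem _ _
    · exact card_fourG (h.ne _ _ hij) (h.ne _ _ hik) (by rw [hm]; exact h.ne _ _ hjk)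
    · intro v hv hv1
      rcases (hmem v).1 hv with h1 | rfl | rfl | rfl
      · exact absurd h1 hv1
      · exact ⟨_, _, hij, rfl⟩
      · exact ⟨_, _, hik, rfl⟩
      · exact ⟨_, _, hjk, rfl⟩

/-- an element commuting with `t_ij` and `t_ik` lies in `N(W)` -/
theorem mem_of_comm {i j k : Fin 5} (hij : i ≠ j) (hik : i ≠ k) (hjk : j ≠ k) {g : G} (h1 : g * tt u i j = tt u i j * g)
    (h2 : g * tt u i k = tt u i k * g) : g ∈ normalizer (W E : Set G) := by
  obtain ⟨V, -, -, hV, hN⟩ := h.four_le hij hik hjk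
  apply hN
  apply centralizer_le_normalizer
  rw [mem_centralizer_iff]
  intro v hv
  rcases (hV v).1 hv with rfl | rfl | rfl | rfl
  · rw [one_mul, mul_one]
  · exact h1.symm
  · exact h2.symm
  · rw [← h.tt_mul i j k, mul_assoc, ← h2, ← mul_assoc, ← h1, mul_assoc]

theorem centralizer_tt_le {i j : Fin 5} (hij : i ≠ j) : centralizer ({tt u i j} : Set G) ≤ normalizer (W E : Set G) := by
  have h01 : centralizer ({tt u 0 1} : Set G) ≤ normalizer (W E : Set G) := by
    refine h.gen _ ?_ h.tf.normalizer_le ?_ ?_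
    · exact (h.tf.core_le ⟨0, 1, by decide, rfl⟩).trans le_normalizer
    · intro g h1 h2
      exact h.mem_of_comm (by decide) (by decide) (by decide) h1 h2
    · intro g h1 h2
      exact h.mem_of_comm (by decide) (by decide) (by decide) h1 h2
  obtain ⟨m, hmi, hmj⟩ : ∃ m, i ≠ m ∧ j ≠ m := by
    have : ∀ i j : Fin 5, ∃ m, i ≠ m ∧ j ≠ m := by decide
    exact this i j
  obtain ⟨σ, rfl, rfl, -⟩ := perm_three i j m hij hmi hmj
  obtain ⟨n, hn⟩ := h.perm σ
  rw [← hn]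
  exact Cfsg.Agent.Lib.TwoClassEnd.centralizer_conj_le (h.tf.normalizer_le (h.mem_normalizer hn)) h01

theorem centralizer_zz_le : centralizer ({zz u} : Set G) ≤ normalizer (W E : Set G) := by
  haveI : Fact (Nat.Prime 2) := ⟨Nat.prime_two⟩
  refine h.cz _ ?_ h.tf.normalizer_le
  obtain ⟨V, hVE, hc, hV, -⟩ := h.four_le (i := 0) (j := 1) (k := 2) (by decide) (by decide) (by decide)
  refine h.tf.le_gen hVE hc (core_card 2 _) ((hVE.trans (h.tf.le_centralizer h.zz_mem)).trans (core_normalized 2 _)) ?_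
  intro v hv hv1
  refine inf_le_right.trans ?_
  rcases (hV v).1 hv with h1 | rfl | rfl | rfl
  · exact absurd h1 hv1
  · exact h.centralizer_tt_le (by decide)
  · exact h.centralizer_tt_le (by decide)
  · exact h.centralizer_tt_le (by decide)

theorem orderOf_of {a : G} (ha : a ∈ E) (ha1 : a ≠ 1) : orderOf a = 2 :=
  orderOf_eq_prime (by rw [pow_two]; exact h.sq ha) ha1

/-- `W = 1` -/
theorem W_eq_bot [IsSimpleGroup G] : W E = ⊥ := by
  refine Cfsg.Agent.Lib.TwoClassEnd.eq_bot S h.tf.odd (h.nS.trans h.centralizer_zz_le) {tt u 0 1, zz u} ?_ ?_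
    (h.orderOf_of (h.tt_mem 0 1) (h.ne 0 1 (by decide))) (h.orderOf_of h.zz_mem h.zne) h.ntz
  · rintro x (rfl | rfl)
    · exact h.centralizer_tt_le (by decide)
    · exact h.centralizer_zz_le
  · intro v hv hv2
    obtain ⟨m, hm, h1 | h1⟩ := h.cls _ h.tf.normalizer_le (h.centralizer_tt_le (by decide)) h.centralizer_zz_le v hv hv2
    · exact ⟨_, Or.inl rfl, m, hm, h1⟩
    · exact ⟨_, Or.inr rfl, m, hm, h1⟩

/-- **`O(C(t)) = 1`** -/
theorem core_eq_bot [IsSimpleGroup G] {i j : Fin 5} (hij : i ≠ j) : centralizerPPrimeCore 2 (tt u i j) = ⊥ := by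
  rw [eq_bot_iff, ← h.W_eq_bot]
  exact h.tf.core_le ⟨i, j, hij, rfl⟩

end Inp

end second

end Cfsg.Agent.LFourA.AltFunct

private theorem dce_f0a9efdfc6b5 : _root_.True := by
  try have : _root_.True := by simp only [_root_.Cfsg.Agent.LFourA.AltFunct.tt.eq_1]
  try have : _root_.True := by simp only [_root_.Cfsg.Agent.LFourA.AltFunct.zz.eq_1]
  exact _root_.True.intro
end
end
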