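import Mathlib
import Cfsg.Prelude.Def_CaseTheorems
import Cfsg.Agent.S1250
import Cfsg.Agent.Lib.Cores
import Cfsg.Agent.LFourA.Base
set_option linter.all false

/-!
# Passing to the quotient by the odd core
-/

set_option autoImplicit false

namespace Cfsg.Agent.LFourA.Quot

open DihedralGroup Cfsg.Agent.LFourA.Model Cfsg.Agent.LFourA.Base Subgroup

variable {X : Type*} [Group X] [Finite X]

/-- the projection -/
def pr (X : Type*) [Group X] [Finite X] : X →* X ⧸ Cfsg.oddCore X := QuotientGroup.mk' (Cfsg.oddCore X)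

theorem pr_surj : Function.Surjective (pr X) := QuotientGroup.mk'_surjective _

theorem pr_eq_one {x : X} : pr X x = 1 ↔ x ∈ Cfsg.oddCore X := QuotientGroup.eq_one_iff x

theorem oddCore_quot : Cfsg.oddCore (X ⧸ Cfsg.oddCore X) = ⊥ :=
  Cfsg.Agent.Lib.Cores.pPrimeCore_quotient_pPrimeCore 2

variable (P : Sylow 2 X)

/-- the image of the Sylow subgroup -/
noncomputable def syl : Sylow 2 (X ⧸ Cfsg.oddCore X) := Sylow.mapSurjective pr_surj P

theorem syl_coe : (syl P : Subgroup (X ⧸ Cfsg.oddCore X)) = (P : Subgroup X).map (pr X) :=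
  Sylow.coe_mapSurjective pr_surj P

theorem eq_one_of_mem {x : X} (hx : x ∈ (P : Subgroup X)) (hx' : pr X x = 1) : x = 1 := by
  rw [pr_eq_one] at hx'
  have h1 : (Nat.card (Cfsg.oddCore X)).Coprime 2 := Cfsg.Agent.Lib.Cores.pPrimeCore_coprime 2
  have h2 : orderOf x ∣ Nat.card (Cfsg.oddCore X) := by
    have := orderOf_dvd_natCard (⟨x, hx'⟩ : Cfsg.oddCore X)
    rwa [← orderOf_coe] at this
  obtain ⟨k, hk⟩ := IsPGroup.iff_orderOf.1 P.isPGroup' ⟨x, hx⟩
  rw [← orderOf_coe] at hk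
  change orderOf x = 2 ^ k at hk
  rw [hk] at h2
  have h3 : Nat.Coprime (2 ^ k) (Nat.card (Cfsg.oddCore X)) := Nat.Coprime.pow_left _ h1.symm
  have h4 : 2 ^ k = 1 := Nat.eq_one_of_dvd_coprimes h3 dvd_rfl h2
  rw [h4] at hk
  exact orderOf_eq_one_iff.1 hk

theorem inj_of_mem {x y : X} (hx : x ∈ (P : Subgroup X)) (hy : y ∈ (P : Subgroup X)) (h : pr X x = pr X y) :
    x = y := by
  have h1 : pr X (x⁻¹ * y) = 1 := by rw [map_mul, map_inv, h, inv_mul_cancel]
  exact inv_mul_eq_one.1 (eq_one_of_mem P (mul_mem (inv_mem hx) hy) h1)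

theorem mem_syl {y : X ⧸ Cfsg.oddCore X} : y ∈ (syl P : Subgroup (X ⧸ Cfsg.oddCore X)) ↔
    ∃ x ∈ (P : Subgroup X), pr X x = y := by
  rw [syl_coe]
  exact Iff.rfl

theorem pr_mem_syl {x : X} (hx : x ∈ (P : Subgroup X)) : pr X x ∈ (syl P : Subgroup (X ⧸ Cfsg.oddCore X)) :=
  (mem_syl P).2 ⟨x, hx, rfl⟩

/-- conjugacy of elements of `P` lifts from the quotient -/
theorem conj_lift {x y : X} (hx : x ∈ (P : Subgroup X)) (hy : y ∈ (P : Subgroup X)) {g : X ⧸ Cfsg.oddCore X}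
    (hg : g * pr X x * g⁻¹ = pr X y) : ∃ g', pr X g' = g ∧ g' * x * g'⁻¹ = y := by
  obtain ⟨g, rfl⟩ := pr_surj g
  have h1 : pr X (y⁻¹ * (g * x * g⁻¹)) = 1 := by
    rw [map_mul, map_mul, map_mul, map_inv, map_inv, hg, inv_mul_cancel]
  have h2 : g * x * g⁻¹ ∈ (P : Subgroup X) ⊔ Cfsg.oddCore X := by
    have h3 : g * x * g⁻¹ = y * (y⁻¹ * (g * x * g⁻¹)) := by group
    rw [h3]
    exact mul_mem (mem_sup_left hy) (mem_sup_right (pr_eq_one.1 h1))
  have hp : IsPGroup 2 (zpowers (g * x * g⁻¹)) := by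
    have h0 : IsPGroup 2 (zpowers x) := by
      apply P.2.to_le
      rw [zpowers_le]
      exact hx
    have h3 : zpowers (g * x * g⁻¹) = (zpowers x).map (MulAut.conj g).toMonoidHom := by
      rw [MonoidHom.map_zpowers]; rfl
    rw [h3]
    exact h0.map _
  obtain ⟨n, hn, hnx⟩ := Cfsg.Agent.S1250.exists_mem_normal_conj_mem P (Cfsg.oddCore X) _ hp h2
  refine ⟨n * g, ?_, ?_⟩
  · rw [map_mul, pr_eq_one.2 hn, one_mul]
  · have h4 : n * g * x * (n * g)⁻¹ = n * (g * x * g⁻¹) * n⁻¹ := by group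
    rw [h4]
    apply inj_of_mem P hnx hy
    rw [map_mul, map_mul, map_inv, pr_eq_one.2 hn, ← hg]
    simp only [map_mul, map_inv]
    group

section dwr

variable {P} {k : ℕ} {f : D k → D k → X} {w : X} (h : DWr (P : Subgroup X) k f w)

include h

/-- the coordinates of the image -/
theorem dwr : DWr (syl P : Subgroup (X ⧸ Cfsg.oddCore X)) k (fun a b => pr X (f a b)) (pr X w) where
  f_mul a b a' b' := by rw [← map_mul, h.f_mul]
  f_inj a b e := h.f_inj a b (eq_one_of_mem P (f_mem h a b) e)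
  w_w := by rw [← map_mul, h.w_w, map_one]
  w_f a b := by rw [← map_mul, h.w_f, map_mul]
  w_ne a b e := h.w_ne a b (inj_of_mem P (w_mem h) (f_mem h a b) e)
  mem_iff g := by
    constructor
    · intro hg
      obtain ⟨x, hx, rfl⟩ := (mem_syl P).1 hg
      rcases mem_cases h hx with ⟨a, b, rfl⟩ | ⟨a, b, rfl⟩
      · exact Or.inl ⟨a, b, rfl⟩
      · exact Or.inr ⟨a, b, map_mul _ _ _⟩
    · rintro (⟨a, b, rfl⟩ | ⟨a, b, rfl⟩)
      · exact pr_mem_syl P (f_mem h a b)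
      · rw [← map_mul]
        exact pr_mem_syl P (fw_mem h a b)

end dwr

end Cfsg.Agent.LFourA.Quot
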